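import Mathlib

/-!
# Cokernels of semilinear maps exact on every closed fibre are projective
-/

set_option autoImplicit false

universe u v

namespace Groth.Agent.DieudLib

open Submodule

/-- An element of `m • ⊤` in a localisation comes from `P • ⊤`. -/
theorem exists_mem_of_mem_maximalIdeal_smul {R : Type u} [CommRing R] (P : Ideal R) [P.IsMaximal]
    {N : Type v} [AddCommGroup N] [Module R N] {x : LocalizedModule P.primeCompl N}
    (hx : x ∈ IsLocalRing.maximalIdeal (Localization.AtPrime P) •
      (⊤ : Submodule (Localization.AtPrime P) (LocalizedModule P.primeCompl N))) :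
    ∃ z ∈ P • (⊤ : Submodule R N), ∃ u : P.primeCompl, x = LocalizedModule.mk z u := by
  refine Submodule.smul_induction_on hx (fun r hr y _ => ?_) fun a b ha hb => ?_
  · rw [← Localization.AtPrime.map_eq_maximalIdeal,
      IsLocalization.mem_map_algebraMap_iff P.primeCompl] at hr
    obtain ⟨⟨⟨a, ha⟩, s⟩, hrs⟩ := hr
    induction y using LocalizedModule.induction_on with
    | h n t =>
      refine ⟨a • n, Submodule.smul_mem_smul ha trivial, s * t, ?_⟩
      have hr' : r = Localization.mk a s := by
        rw [Localization.mk_eq_mk', IsLocalization.eq_mk'_iff_mul_eq]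
        exact hrs
      rw [hr', LocalizedModule.mk_smul_mk]
  · obtain ⟨z, hz, u, rfl⟩ := ha
    obtain ⟨z', hz', u', rfl⟩ := hb
    exact ⟨u' • z + u • z', Submodule.add_mem _ (Submodule.smul_mem _ _ hz) (Submodule.smul_mem _ _ hz'),
      u * u', LocalizedModule.mk_add_mk⟩

/-- A quotient by the image of one semilinear map is projective if it injects fibrewise by the other. -/
theorem projective_quotient {R : Type u} [CommRing R] {N : Type v} [AddCommGroup N] [Module R N]
    [Module.Finite R N] [Module.Projective R N] (U : Submodule R N) (hUfg : U.FG) (σ : R ≃+* R)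
    (hσ : ∀ P : Ideal R, P.IsMaximal → ∀ x, σ x ∈ P ↔ x ∈ P) (φ : N →+ N)
    (hφ : ∀ (r : R) (m : N), φ (r • m) = σ r • φ m) (hU : ∀ m ∈ U, φ m = 0)
    (hex : ∀ P : Ideal R, P.IsMaximal → ∀ m, φ m ∈ P • (⊤ : Submodule R N) →
      m ∈ U ⊔ P • (⊤ : Submodule R N)) :
    Module.Projective R (N ⧸ U) := by
  haveI : Module.FinitePresentation R N := Module.finitePresentation_of_projective R N
  haveI : Module.FinitePresentation R (N ⧸ U) :=
    Module.finitePresentation_of_surjective U.mkQ U.mkQ_surjective (by rwa [U.ker_mkQ])
  refine Module.projective_of_localization_maximal fun P hP => ?_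
  classical
  -- a basis of the fibre of the quotient
  let V := N ⧸ (U ⊔ P • (⊤ : Submodule R N))
  have htor : Module.IsTorsionBySet R V P := by
    rintro x ⟨r, hr⟩
    obtain ⟨n, rfl⟩ := Submodule.mkQ_surjective _ x
    rw [← map_smul, Submodule.mkQ_apply, Submodule.Quotient.mk_eq_zero]
    exact Submodule.mem_sup_right (Submodule.smul_mem_smul hr trivial)
  letI : Module (R ⧸ P) V := htor.module
  haveI : IsScalarTower R (R ⧸ P) V := htor.isScalarTower
  letI := Ideal.Quotient.field P
  haveI : Module.Finite (R ⧸ P) V := Module.Finite.of_restrictScalars_finite R _ _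
  let b := Module.finBasis (R ⧸ P) V
  choose a ha using fun i => Submodule.mkQ_surjective (U ⊔ P • (⊤ : Submodule R N)) (b i)
  have hmk : ∀ c : Fin (Module.finrank (R ⧸ P) V) → R,
      (U ⊔ P • (⊤ : Submodule R N)).mkQ (∑ i, c i • a i) = ∑ i, (Ideal.Quotient.mk P (c i)) • b i := by
    intro c
    rw [map_sum]
    refine Finset.sum_congr rfl fun i _ => ?_
    rw [map_smul, ha, ← algebraMap_smul (R ⧸ P) (c i) (b i)]
    rfl
  have hfib : ∀ c : Fin (Module.finrank (R ⧸ P) V) → R,
      ∑ i, c i • a i ∈ U ⊔ P • (⊤ : Submodule R N) → ∀ i, c i ∈ P := by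
    intro c hc i
    have h := hmk c
    rw [Submodule.mkQ_apply, (Submodule.Quotient.mk_eq_zero _).2 hc] at h
    exact Ideal.Quotient.eq_zero_iff_mem.1 (Fintype.linearIndependent_iff.1 b.linearIndependent _ h.symm i)
  let l : N →ₗ[R] LocalizedModule P.primeCompl N := LocalizedModule.mkLinearMap _ N
  let q : N →ₗ[R] LocalizedModule P.primeCompl (N ⧸ U) := LocalizedModule.mkLinearMap _ (N ⧸ U) ∘ₗ U.mkQ
  -- generation
  have hgen : ⊤ ≤ Submodule.span (Localization.AtPrime P) (Set.range fun i => q (a i)) := by
    refine Submodule.le_of_le_smul_of_le_jacobson_bot Module.Finite.fg_top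
      (I := IsLocalRing.maximalIdeal (Localization.AtPrime P))
      (IsLocalRing.maximalIdeal_le_jacobson _) fun x _ => ?_
    induction x using LocalizedModule.induction_on with
    | h n s =>
      obtain ⟨n, rfl⟩ := Submodule.mkQ_surjective _ n
      have hxs : LocalizedModule.mk (U.mkQ n) s = (Localization.mk 1 s : Localization.AtPrime P) • q n := by
        show _ = _ • LocalizedModule.mk (U.mkQ n) 1
        rw [LocalizedModule.mk_smul_mk, one_smul, mul_one]
      rw [hxs]
      refine Submodule.smul_mem _ _ ?_
      choose c hc using fun i => Ideal.Quotient.mk_surjective (b.repr ((U ⊔ P • (⊤ : Submodule R N)).mkQ n) i)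
      have h1 : n - ∑ i, c i • a i ∈ U ⊔ P • (⊤ : Submodule R N) := by
        rw [← Submodule.Quotient.mk_eq_zero, Submodule.Quotient.mk_sub, sub_eq_zero]
        have := hmk c
        simp only [hc, b.sum_repr] at this
        exact this.symm
      rw [Submodule.mem_sup] at h1
      obtain ⟨y, hy, z, hz, hyz⟩ := h1
      have hn : q n = ∑ i, c i • q (a i) + q z := by
        have : n = ∑ i, c i • a i + (y + z) := by rw [hyz]; abel
        rw [this, map_add, map_add, map_sum]
        simp only [map_smul]
        rw [show q y = 0 by simp [q, (Submodule.Quotient.mk_eq_zero U).2 hy], zero_add]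
      rw [hn]
      refine Submodule.add_mem_sup (Submodule.sum_mem _ fun i _ => ?_) ?_
      · rw [← algebraMap_smul (Localization.AtPrime P) (c i)]
        exact Submodule.smul_mem _ _ (Submodule.subset_span ⟨i, rfl⟩)
      · refine Submodule.smul_induction_on hz (fun r hr m _ => ?_) fun u w hu hw => ?_
        · rw [map_smul, ← algebraMap_smul (Localization.AtPrime P) r]
          refine Submodule.smul_mem_smul ?_ trivial
          exact (IsLocalization.AtPrime.to_map_mem_maximal_iff _ P r).2 hr
        · rw [map_add]; exact Submodule.add_mem _ hu hw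
  -- the images under `φ` are independent in the localisation
  have hlin : LinearIndependent (Localization.AtPrime P) fun i : ULift.{u} (Fin _) => l (φ (a i.down)) := by
    haveI : Module.Projective (Localization.AtPrime P) (LocalizedModule P.primeCompl N) :=
      Module.projective_of_isLocalizedModule P.primeCompl (LocalizedModule.mkLinearMap P.primeCompl N)
    refine Module.IsLocalRing.linearIndependent_of_flat _ ?_
    rw [Fintype.linearIndependent_iff]
    intro g hg i
    choose c hc using fun j => Ideal.Quotient.mk_surjective (I := IsLocalRing.maximalIdeal (Localization.AtPrime P)) (g j)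
    have h1 : TensorProduct.mk (Localization.AtPrime P) (IsLocalRing.ResidueField (Localization.AtPrime P)) _ 1
        (∑ j, c j • l (φ (a j.down))) = 0 := by
      rw [← hg, map_sum]
      refine Finset.sum_congr rfl fun j _ => ?_
      rw [map_smul, ← hc j, ← algebraMap_smul (IsLocalRing.ResidueField (Localization.AtPrime P)) (c j)]
      rfl
    replace h1 : ∑ j, c j • l (φ (a j.down)) ∈ IsLocalRing.maximalIdeal (Localization.AtPrime P) •
        (⊤ : Submodule (Localization.AtPrime P) (LocalizedModule P.primeCompl N)) := by
      rw [← LinearMap.ker_tensorProductMk]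
      exact h1
    obtain ⟨z, hz, u, hzu⟩ := exists_mem_of_mem_maximalIdeal_smul P h1
    obtain ⟨s, hs⟩ := IsLocalization.exist_integer_multiples_of_finite P.primeCompl c
    choose r hr using hs
    have h2 : LocalizedModule.mk (∑ j, r j • φ (a j.down)) 1 = LocalizedModule.mk ((s : R) • z) u := by
      rw [show LocalizedModule.mk ((s : R) • z) u = (s : R) • LocalizedModule.mk z u from
        (LocalizedModule.smul'_mk _ _ _).symm, ← hzu, Finset.smul_sum]
      show l _ = _
      rw [map_sum]
      refine Finset.sum_congr rfl fun j _ => ?_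
      rw [map_smul, ← algebraMap_smul (Localization.AtPrime P) (r j), hr j, smul_assoc]
    rw [LocalizedModule.mk_eq] at h2
    obtain ⟨w, hw⟩ := h2
    simp only [one_smul, smul_smul, Submonoid.smul_def, Submonoid.coe_mul, Finset.smul_sum] at hw
    have h3 : φ (∑ j, σ.symm ((w * u : R) * r j) • a j.down) ∈ P • (⊤ : Submodule R N) := by
      rw [map_sum]
      simp only [hφ, RingEquiv.apply_symm_apply, mul_assoc]
      rw [hw]
      exact Submodule.smul_mem _ _ hz
    have h4 := hex P hP _ h3
    have h5 : σ.symm ((w * u : R) * r i) ∈ P := by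
      refine hfib (fun j => σ.symm ((w * u : R) * r (ULift.up j))) ?_ i.down
      convert h4 using 1
      exact (Equiv.ulift.symm.sum_comp fun j => σ.symm ((w * u : R) * r j) • a j.down)
    rw [← hσ P hP, RingEquiv.apply_symm_apply] at h5
    have h6 : r i ∈ P := ((Ideal.IsMaximal.isPrime hP).mem_or_mem h5).resolve_left (w * u).2
    have h7 : c i ∈ IsLocalRing.maximalIdeal (Localization.AtPrime P) := by
      have := (IsLocalization.AtPrime.to_map_mem_maximal_iff (Localization.AtPrime P) P (r i)).2 h6
      rw [hr i, Algebra.smul_def] at this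
      refine ((IsLocalRing.maximalIdeal.isMaximal _).isPrime.mem_or_mem this).resolve_left ?_
      rw [IsLocalization.AtPrime.to_map_mem_maximal_iff _ P]
      exact s.2
    rw [← hc i]
    exact Ideal.Quotient.eq_zero_iff_mem.2 h7
  -- independence in the quotient
  have hind : LinearIndependent (Localization.AtPrime P) fun i => q (a i) := by
    rw [Fintype.linearIndependent_iff]
    intro c hc i
    obtain ⟨s, hs⟩ := IsLocalization.exist_integer_multiples_of_finite P.primeCompl c
    choose r hr using hs
    have h2 : q (∑ j, r j • a j) = 0 := by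
      rw [map_sum]
      calc ∑ j, q (r j • a j) = (s : R) • ∑ j, c j • q (a j) := by
            rw [Finset.smul_sum]
            refine Finset.sum_congr rfl fun j _ => ?_
            rw [map_smul, ← algebraMap_smul (Localization.AtPrime P) (r j), hr j, smul_assoc]
        _ = 0 := by rw [hc, smul_zero]
    obtain ⟨⟨t, ht⟩, htU⟩ := (IsLocalizedModule.eq_zero_iff P.primeCompl
      (LocalizedModule.mkLinearMap _ (N ⧸ U))).1 h2
    rw [Submonoid.smul_def, ← map_smul, Submodule.mkQ_apply, Submodule.Quotient.mk_eq_zero] at htU
    have h3 := hU _ htU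
    rw [Finset.smul_sum, map_sum] at h3
    simp only [smul_smul, hφ] at h3
    have h4 : ∑ j : ULift.{u} (Fin _), algebraMap R (Localization.AtPrime P) (σ (t * r j.down)) • l (φ (a j.down)) = 0 := by
      have := congrArg l h3
      simp only [map_sum, map_smul, map_zero] at this
      simp only [algebraMap_smul]
      rw [← this]
      exact (Equiv.ulift.sum_comp fun j => σ (t * r j) • l (φ (a j)))
    have h5 := Fintype.linearIndependent_iff.1 hlin _ h4 ⟨i⟩
    obtain ⟨⟨u, hu⟩, hu0⟩ := (IsLocalization.map_eq_zero_iff P.primeCompl _ _).1 h5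
    have h6 : (σ.symm u * t) * r i = 0 := by
      apply σ.injective
      rw [mul_assoc, map_mul, RingEquiv.apply_symm_apply, map_zero]
      exact hu0
    have hmem : σ.symm u * t ∈ P.primeCompl := by
      refine P.primeCompl.mul_mem ?_ ht
      show σ.symm u ∉ P
      rw [← hσ P hP, RingEquiv.apply_symm_apply]
      exact hu
    have h7 : algebraMap R (Localization.AtPrime P) (r i) = 0 :=
      (IsLocalization.map_eq_zero_iff P.primeCompl _ _).2 ⟨⟨_, hmem⟩, h6⟩
    rw [hr i, Algebra.smul_def] at h7
    exact ((IsLocalization.map_units _ s).mul_right_eq_zero).1 h7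
  haveI := Module.Free.of_basis (Module.Basis.mk hind hgen)
  infer_instance

/-- `M / I • M` is projective over `W / I` when `M` is projective over an algebra `A` mapping to `W / I`. -/
theorem projective_quot_smul_top {W : Type u} [CommRing W] (I : Ideal W) {A : Type u} [CommRing A]
    [Algebra W A] (hA : Function.Surjective (algebraMap W A)) (hker : RingHom.ker (algebraMap W A) ≤ I)
    (M : Type v) [AddCommGroup M] [Module W M] [Module A M] [IsScalarTower W A M] [Module.Projective A M] :
    Module.Projective (W ⧸ I) (M ⧸ I • (⊤ : Submodule W M)) := by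
  obtain ⟨s, hs⟩ := (Module.projective_def (R := A) (P := M)).1 inferInstance
  let q : A →ₐ[W] W ⧸ I :=
    (Ideal.Quotient.liftₐ _ (Ideal.Quotient.mkₐ W I) fun w hw => Ideal.Quotient.eq_zero_iff_mem.2 (hker hw)).comp
      (Ideal.quotientKerAlgEquivOfSurjective (f := Algebra.ofId W A) hA).symm.toAlgHom
  let i₁ : M →ₗ[W] M →₀ (W ⧸ I) := Finsupp.mapRange.linearMap q.toLinearMap ∘ₗ s.restrictScalars W
  have hi₁ : I • (⊤ : Submodule W M) ≤ LinearMap.ker i₁ := by
    refine Submodule.smul_le.2 fun w hw m _ => ?_
    rw [LinearMap.mem_ker, map_smul]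
    refine Finsupp.ext fun j => ?_
    rw [Finsupp.smul_apply, Algebra.smul_def, Ideal.Quotient.algebraMap_eq, Ideal.Quotient.eq_zero_iff_mem.2 hw,
      zero_mul, Finsupp.zero_apply]
  let i₂ : (M ⧸ I • (⊤ : Submodule W M)) →ₗ[W ⧸ I] M →₀ (W ⧸ I) :=
    LinearMap.extendScalarsOfSurjective Ideal.Quotient.mk_surjective
      ((I • (⊤ : Submodule W M)).liftQ i₁ hi₁)
  refine Module.Projective.of_split i₂
    (Finsupp.linearCombination (W ⧸ I) fun m : M => (I • (⊤ : Submodule W M)).mkQ m) ?_
  refine LinearMap.ext fun x => ?_
  obtain ⟨m, rfl⟩ := Submodule.mkQ_surjective _ x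
  show Finsupp.linearCombination (W ⧸ I) _ (i₁ m) = _
  have key : ∀ c : M →₀ A, Finsupp.linearCombination (W ⧸ I) (fun m : M => (I • (⊤ : Submodule W M)).mkQ m)
      (Finsupp.mapRange q (map_zero q) c) = (I • (⊤ : Submodule W M)).mkQ (Finsupp.linearCombination A id c) := by
    intro c
    induction c using Finsupp.induction_linear with
    | zero => simp
    | add c d hc hd => rw [Finsupp.mapRange_add (map_add q), map_add, map_add, map_add, hc, hd]
    | single j r =>
      obtain ⟨w, rfl⟩ := hA r
      rw [Finsupp.mapRange_single, Finsupp.linearCombination_single, Finsupp.linearCombination_single,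
        AlgHom.commutes, algebraMap_smul, algebraMap_smul, id_eq, map_smul]
  exact (key (s m)).trans (congrArg _ (hs m))

end Groth.Agent.DieudLib
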