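import Groth.Agent.DieudLib.ProjQuot

/-!
# Exactness of `F` and `V` on the closed fibres of a projective (truncated) Dieudonné module
-/

set_option autoImplicit false

universe u v

namespace Groth.Agent.DieudLib

open WittVector

variable (p : ℕ) [Fact p.Prime] {k : Type u} [CommRing k] [CharP k p] [PerfectRing k p]

theorem constantCoeff_frobenius (w : WittVector p k) :
    (WittVector.frobenius w).coeff 0 = w.coeff 0 ^ p := by rw [WittVector.coeff_frobenius_charP]

theorem map_frobenius {L : Type u} [CommRing L] [CharP L p] (h : k →+* L) (w : WittVector p k) :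
    WittVector.map h (WittVector.frobenius w) = WittVector.frobenius (WittVector.map h w) :=
  WittVector.ext fun i => by
    rw [WittVector.map_coeff, WittVector.coeff_frobenius_charP, WittVector.coeff_frobenius_charP,
      WittVector.map_coeff, map_pow]

theorem projective_coker {A : Type u} [CommRing A] [Algebra (WittVector p k) A]
    (hA : Function.Surjective (algebraMap (WittVector p k) A))
    (hker : RingHom.ker (algebraMap (WittVector p k) A) ≤ Ideal.span {(p : WittVector p k)})
    (hreg : ∀ (L : Type u) [Field L] [CharP L p] [PerfectRing L p] (h : k →+* L) (w : WittVector p k),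
      algebraMap (WittVector p k) A ((p : WittVector p k) * w) ∈
        (RingHom.ker (WittVector.map h)).map (algebraMap (WittVector p k) A) → h (w.coeff 0) = 0)
    (M : Type v) [AddCommGroup M] [Module (WittVector p k) M] [Module A M]
    [IsScalarTower (WittVector p k) A M] [Module.Finite A M] [Module.Projective A M]
    (F : M →ₛₗ[(WittVector.frobenius : WittVector p k →+* WittVector p k)] M)
    (V : M →ₛₗ[((WittVector.frobeniusEquiv p k).symm : WittVector p k →+* WittVector p k)] M)
    (hFV : ∀ m : M, F (V m) = (p : WittVector p k) • m) (hVF : ∀ m : M, V (F m) = (p : WittVector p k) • m) :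
    Module.Projective (WittVector p k ⧸ Ideal.span {(p : WittVector p k)})
      ((M ⧸ (Ideal.span {(p : WittVector p k)} • (⊤ : Submodule (WittVector p k) M))) ⧸
        Submodule.span (WittVector p k ⧸ Ideal.span {(p : WittVector p k)})
          (Set.range fun m : M =>
            (Ideal.span {(p : WittVector p k)} • (⊤ : Submodule (WittVector p k) M)).mkQ (V m))) := by
  let W := WittVector p k
  let I : Ideal W := Ideal.span {(p : W)}
  let S : Submodule W M := I • ⊤
  let R := W ⧸ I
  haveI hMW : Module.Finite W M := by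
    haveI : Module.Finite W A := Module.Finite.of_surjective (Algebra.linearMap W A) hA
    exact Module.Finite.trans A M
  haveI : Module.Finite R (M ⧸ S) := Module.Finite.of_restrictScalars_finite W R (M ⧸ S)
  haveI : Module.Projective R (M ⧸ S) := projective_quot_smul_top I hA hker M
  -- the Frobenius on the quotient
  have hI : Ideal.map (WittVector.frobeniusEquiv p k : W →+* W) I = I := by
    rw [Ideal.map_span, Set.image_singleton, RingHom.coe_coe, map_natCast]
  let σ : R ≃+* R := Ideal.quotientEquiv I I (WittVector.frobeniusEquiv p k) hI.symm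
  have hσmk : ∀ w, σ (Ideal.Quotient.mk I w) = Ideal.Quotient.mk I (WittVector.frobenius w) := fun w => rfl
  have hσpow : ∀ x, σ x = x ^ p := by
    intro x
    obtain ⟨w, rfl⟩ := Ideal.Quotient.mk_surjective x
    rw [hσmk, ← map_pow, Ideal.Quotient.eq, WittVector.mem_span_p_iff_coeff_zero_eq_zero]
    show WittVector.constantCoeff (WittVector.frobenius w - w ^ p) = 0
    rw [map_sub, map_pow]
    exact sub_eq_zero.2 (constantCoeff_frobenius p w)
  have hFS : ∀ m ∈ S, F m ∈ S := fun m hm => by
    refine Submodule.smul_induction_on hm (fun r hr y _ => ?_) fun a b ha hb => ?_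
    · obtain ⟨c, rfl⟩ := Ideal.mem_span_singleton.1 hr
      rw [LinearMap.map_smulₛₗ, map_mul, map_natCast]
      exact Submodule.smul_mem_smul (Ideal.mul_mem_right _ _ (Ideal.subset_span rfl)) trivial
    · rw [map_add]; exact S.add_mem ha hb
  let φ : (M ⧸ S) →+ (M ⧸ S) := QuotientAddGroup.lift S.toAddSubgroup
    (S.mkQ.toAddMonoidHom.comp F.toAddMonoidHom) fun m hm => by
      exact (Submodule.Quotient.mk_eq_zero S).2 (hFS m hm)
  have hφmk : ∀ m, φ (S.mkQ m) = S.mkQ (F m) := fun m => rfl
  have hφ : ∀ (r : R) (n : M ⧸ S), φ (r • n) = σ r • φ n := by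
    intro r n
    obtain ⟨w, rfl⟩ := Ideal.Quotient.mk_surjective r
    obtain ⟨m, rfl⟩ := Submodule.mkQ_surjective S n
    show φ (S.mkQ (w • m)) = S.mkQ (WittVector.frobenius w • F m)
    rw [hφmk, LinearMap.map_smulₛₗ]
  let U : Submodule R (M ⧸ S) := Submodule.span R (Set.range fun m : M => S.mkQ (V m))
  have hUfg : U.FG := by
    obtain ⟨t, ht⟩ := hMW.fg_top
    classical
    refine ⟨t.image fun m => S.mkQ (V m), le_antisymm (Submodule.span_le.2 ?_) (Submodule.span_le.2 ?_)⟩
    · rw [Finset.coe_image]
      rintro _ ⟨m, -, rfl⟩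
      exact Submodule.subset_span ⟨m, rfl⟩
    · rintro _ ⟨m, rfl⟩
      have hm : m ∈ Submodule.span W (t : Set M) := ht ▸ trivial
      induction hm using Submodule.span_induction with
      | mem x hx =>
        rw [Finset.coe_image]
        exact Submodule.subset_span ⟨x, hx, rfl⟩
      | zero => simp
      | add x y _ _ hx hy => simp only [map_add]; exact Submodule.add_mem _ hx hy
      | smul w x _ hx =>
        simp only [LinearMap.map_smulₛₗ, map_smul]
        exact Submodule.smul_mem _ (Ideal.Quotient.mk I _) hx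
  have hU : ∀ n ∈ U, φ n = 0 := by
    intro n hn
    induction hn using Submodule.span_induction with
    | mem x hx =>
      obtain ⟨m, rfl⟩ := hx
      rw [hφmk, hFV]
      exact (Submodule.Quotient.mk_eq_zero S).2 (Submodule.smul_mem_smul (Ideal.subset_span rfl) trivial)
    | zero => exact map_zero φ
    | add x y _ _ hx hy => rw [map_add, hx, hy, add_zero]
    | smul r x _ hx => rw [hφ, hx, smul_zero]
  refine projective_quotient U hUfg σ (fun P hP x => ?_) φ hφ hU fun P hP => ?_
  · rw [hσpow]
    exact ⟨hP.isPrime.mem_of_pow_mem p, fun h => Ideal.pow_mem_of_mem P h p (Fact.out : p.Prime).pos⟩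
  -- exactness on the fibre at `P`
  let L := R ⧸ P
  letI : Field L := Ideal.Quotient.field P
  let h : k →+* L := (Ideal.Quotient.mk P).comp (WittVector.quotientPEquiv (p := p) (k := k)).symm.toRingHom
  have hsurj : Function.Surjective h :=
    Ideal.Quotient.mk_surjective.comp (WittVector.quotientPEquiv (p := p) (k := k)).symm.surjective
  haveI : CharP L p := by
    refine (CharP.charP_iff_prime_eq_zero (Fact.out : p.Prime)).mpr ?_
    rw [← map_natCast h, CharP.cast_eq_zero, map_zero]
  haveI : PerfectRing L p := PerfectRing.ofSurjective L p fun y => by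
    obtain ⟨x, rfl⟩ := hsurj y
    obtain ⟨z, rfl⟩ := (PerfectRing.bijective_frobenius (R := k) (p := p)).2 x
    exact ⟨h z, by simp [frobenius_def, map_pow]⟩
  let g : W →+* WittVector p L := WittVector.map h
  let P₀ : Ideal W := P.comap (Ideal.Quotient.mk I)
  have hP₀ : ∀ w, w ∈ P₀ ↔ h (w.coeff 0) = 0 := by
    intro w
    show _ ↔ Ideal.Quotient.mk P ((WittVector.quotientPEquiv (p := p) (k := k)).symm (WittVector.constantCoeff w)) = 0
    rw [← WittVector.quotientPEquiv_mk, RingEquiv.symm_apply_apply, Ideal.Quotient.eq_zero_iff_mem]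
    rfl
  have hP₀eq : P₀ = RingHom.ker g ⊔ I := by
    refine le_antisymm (fun w hw => ?_) (sup_le (fun w hw => (hP₀ w).2 ?_) ?_)
    · have h0 : (g w).coeff 0 = 0 := by rw [WittVector.map_coeff]; exact (hP₀ w).1 hw
      rw [← WittVector.mem_span_p_iff_coeff_zero_eq_zero, Ideal.mem_span_singleton] at h0
      obtain ⟨c, hc⟩ := h0
      obtain ⟨c, rfl⟩ := WittVector.map_surjective h hsurj c
      refine Submodule.mem_sup.2 ⟨w - (p : W) * c, ?_, (p : W) * c, Ideal.mul_mem_right _ _ (Ideal.subset_span rfl),
        sub_add_cancel _ _⟩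
      rw [RingHom.mem_ker, map_sub, map_mul, map_natCast, hc, sub_self]
    · rw [← WittVector.map_coeff, show WittVector.map h w = 0 from hw, WittVector.zero_coeff]
    · intro w hw
      rw [hP₀, (WittVector.mem_span_p_iff_coeff_zero_eq_zero w).1 hw, map_zero]
  intro n hn
  obtain ⟨m, rfl⟩ := Submodule.mkQ_surjective S n
  rw [hφmk] at hn
  have hpull : ∀ y ∈ P • (⊤ : Submodule R (M ⧸ S)), ∀ x, S.mkQ x = y → x ∈ P₀ • (⊤ : Submodule W M) := by
    intro y hy
    refine Submodule.smul_induction_on hy (fun r hr z _ x hx => ?_) fun a b ha hb x hx => ?_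
    · obtain ⟨w, rfl⟩ := Ideal.Quotient.mk_surjective r
      obtain ⟨z, rfl⟩ := Submodule.mkQ_surjective S z
      have : x - w • z ∈ S := (Submodule.Quotient.eq S).1 hx
      have h2 : S ≤ P₀ • (⊤ : Submodule W M) := Submodule.smul_mono_left (hP₀eq ▸ le_sup_right)
      simpa using Submodule.add_mem _ (h2 this) (Submodule.smul_mem_smul (N := (⊤ : Submodule W M)) (show w ∈ P₀ from hr) (n := z) trivial)
    · obtain ⟨xa, rfl⟩ := Submodule.mkQ_surjective S a
      obtain ⟨xb, rfl⟩ := Submodule.mkQ_surjective S b
      have : x - (xa + xb) ∈ S := (Submodule.Quotient.eq S).1 hx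
      have h2 : S ≤ P₀ • (⊤ : Submodule W M) := Submodule.smul_mono_left (hP₀eq ▸ le_sup_right)
      simpa using Submodule.add_mem _ (h2 this) (Submodule.add_mem _ (ha xa rfl) (hb xb rfl))
  have hFm := hpull _ hn _ rfl
  rw [hP₀eq, Submodule.sup_smul, Submodule.mem_sup] at hFm
  obtain ⟨z, hz, y, hy, hzy⟩ := hFm
  obtain ⟨x, rfl⟩ : ∃ x : M, (p : W) • x = y := by
    refine Submodule.smul_induction_on hy (fun r hr z _ => ?_) fun a b ⟨xa, ha⟩ ⟨xb, hb⟩ => ?_
    · obtain ⟨c, rfl⟩ := Ideal.mem_span_singleton.1 hr
      exact ⟨c • z, by rw [smul_smul]⟩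
    · exact ⟨xa + xb, by rw [smul_add, ha, hb]⟩
  have hVz : V z ∈ RingHom.ker g • (⊤ : Submodule W M) := by
    refine Submodule.smul_induction_on hz (fun r hr y _ => ?_) fun a b ha hb => ?_
    · rw [LinearMap.map_smulₛₗ]
      refine Submodule.smul_mem_smul ?_ trivial
      rw [RingHom.mem_ker]
      apply (WittVector.frobenius_bijective p L).injective
      rw [map_zero, ← map_frobenius]
      show g (WittVector.frobeniusEquiv p k ((WittVector.frobeniusEquiv p k).symm r)) = 0
      rw [RingEquiv.apply_symm_apply]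
      exact hr
    · rw [map_add]; exact Submodule.add_mem _ ha hb
  have hd : (p : W) • (m - V x) = V z := by
    have := congrArg V hzy
    rw [map_add, LinearMap.map_smulₛₗ, map_natCast, hVF] at this
    rw [smul_sub, ← this, add_sub_cancel_right]
  have hd0 : m - V x ∈ P₀ • (⊤ : Submodule W M) := by
    obtain ⟨s, hs⟩ := (Module.projective_def (R := A) (P := M)).1 inferInstance
    rw [← hs (m - V x), Finsupp.linearCombination_apply, Finsupp.sum]
    refine Submodule.sum_mem _ fun j _ => ?_
    obtain ⟨w, hw⟩ := hA (s (m - V x) j)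
    rw [← hw, algebraMap_smul]
    refine Submodule.smul_mem_smul ((hP₀ w).2 (hreg L h w ?_)) trivial
    have hj : ∀ y ∈ RingHom.ker g • (⊤ : Submodule W M), s y j ∈ (RingHom.ker g).map (algebraMap W A) := by
      intro y hy
      refine Submodule.smul_induction_on hy (fun r hr z _ => ?_) fun a b ha hb => ?_
      · rw [← algebraMap_smul A r z, map_smul, Finsupp.smul_apply, smul_eq_mul]
        exact Ideal.mul_mem_right _ _ (Ideal.mem_map_of_mem _ hr)
      · rw [map_add, Finsupp.add_apply]; exact Ideal.add_mem _ ha hb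
    have h1 := hj _ hVz
    rw [← hd, ← algebraMap_smul A ((p : W)) (m - V x), map_smul, Finsupp.smul_apply, smul_eq_mul, ← hw] at h1
    rw [map_mul]
    exact h1
  have hpush : ∀ y ∈ P₀ • (⊤ : Submodule W M), S.mkQ y ∈ P • (⊤ : Submodule R (M ⧸ S)) := by
    intro y hy
    refine Submodule.smul_induction_on hy (fun r hr z _ => ?_) fun a b ha hb => ?_
    · rw [map_smul, ← algebraMap_smul R r]
      exact Submodule.smul_mem_smul hr trivial
    · rw [map_add]; exact Submodule.add_mem _ ha hb
  have : S.mkQ m = S.mkQ (V x) + S.mkQ (m - V x) := by rw [← map_add, add_sub_cancel]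
  rw [this]
  exact Submodule.add_mem_sup (Submodule.subset_span ⟨x, rfl⟩) (hpush _ hd0)

end Groth.Agent.DieudLib
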